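import Mathlib
import Cfsg.Agent.Lib.Helper26.MCI.Defs

/-!
# Project MCI (S2132), package [AUT]

The graph of the 35 splittings has at most `8! = 40320` automorphisms: iterated
orbit/stabiliser bound along the base `0, 9, 1, 3, 15, 18, 5`.
-/

set_option autoImplicit false

namespace Cfsg.Agent.Lib.Helper86.MCI

open Cfsg.Agent.Lib.Helper26.MCI

/-- pointwise stabiliser in `Q` of a list of points -/
def stabQ (Q : Subgroup (Equiv.Perm (Fin 35))) (l : List (Fin 35)) :
    Subgroup (Equiv.Perm (Fin 35)) where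
  carrier := {π | π ∈ Q ∧ ∀ b ∈ l, π b = b}
  mul_mem' := by
    rintro a b ⟨ha, ha'⟩ ⟨hb, hb'⟩
    refine ⟨Q.mul_mem ha hb, fun x hx => ?_⟩
    rw [Equiv.Perm.mul_apply, hb' x hx, ha' x hx]
  one_mem' := ⟨Q.one_mem, fun _ _ => rfl⟩
  inv_mem' := by
    rintro a ⟨ha, ha'⟩
    refine ⟨Q.inv_mem ha, fun x hx => ?_⟩
    rw [Equiv.Perm.inv_eq_iff_eq]
    exact (ha' x hx).symm

theorem mem_stabQ {Q : Subgroup (Equiv.Perm (Fin 35))} {l : List (Fin 35)}
    {π : Equiv.Perm (Fin 35)} : π ∈ stabQ Q l ↔ π ∈ Q ∧ ∀ b ∈ l, π b = b := Iff.rfl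

/-- one orbit/stabiliser step -/
theorem card_step (Q : Subgroup (Equiv.Perm (Fin 35))) (l : List (Fin 35)) (b : Fin 35)
    (S : Finset (Fin 35)) (hS : ∀ π ∈ stabQ Q l, π b ∈ S) :
    Nat.card (stabQ Q l) ≤ S.card * Nat.card (stabQ Q (b :: l)) := by
  classical
  let rep : Fin 35 → Equiv.Perm (Fin 35) := fun s =>
    if h : ∃ π ∈ stabQ Q l, π b = s then h.choose else 1
  have hrep : ∀ π ∈ stabQ Q l, rep (π b) ∈ stabQ Q l ∧ rep (π b) b = π b := by
    intro π hπ
    have h : ∃ π' ∈ stabQ Q l, π' b = π b := ⟨π, hπ, rfl⟩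
    simp only [rep, dif_pos h]
    exact h.choose_spec
  have hmem : ∀ π ∈ stabQ Q l, (rep (π b))⁻¹ * π ∈ stabQ Q (b :: l) := by
    intro π hπ
    obtain ⟨h1, h2⟩ := hrep π hπ
    have hm := (stabQ Q l).mul_mem ((stabQ Q l).inv_mem h1) hπ
    refine ⟨hm.1, fun x hx => ?_⟩
    rcases List.mem_cons.mp hx with rfl | hx
    · rw [Equiv.Perm.mul_apply, Equiv.Perm.inv_eq_iff_eq, h2]
    · exact hm.2 x hx
  let f : stabQ Q l → S × stabQ Q (b :: l) := fun π =>
    (⟨π.1 b, hS π.1 π.2⟩, ⟨(rep (π.1 b))⁻¹ * π.1, hmem π.1 π.2⟩)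
  have hf : Function.Injective f := by
    intro π π' h
    have h1 : π.1 b = π'.1 b := congrArg (fun z => ((z.1 : S) : Fin 35)) h
    have h2 : (rep (π.1 b))⁻¹ * π.1 = (rep (π'.1 b))⁻¹ * π'.1 :=
      congrArg (fun z => ((z.2 : stabQ Q (b :: l)) : Equiv.Perm (Fin 35))) h
    rw [h1] at h2
    exact Subtype.ext (mul_left_cancel h2)
  calc Nat.card (stabQ Q l) ≤ Nat.card (S × stabQ Q (b :: l)) :=
        Nat.card_le_card_of_injective f hf
  _ = S.card * Nat.card (stabQ Q (b :: l)) := by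
        rw [Nat.card_prod, Nat.card_eq_fintype_card, Fintype.card_coe]

/-- the candidate set for the image of `b` under the stabiliser of `l` -/
def cand (l : List (Fin 35)) (b : Fin 35) : Finset (Fin 35) :=
  Finset.univ.filter (fun v : Fin 35 => ∀ c ∈ l, v ≠ c ∧ splitAdj v c = splitAdj b c)

theorem mem_cand (Q : Subgroup (Equiv.Perm (Fin 35)))
    (hQ : ∀ π ∈ Q, ∀ i j : Fin 35, splitAdj (π i) (π j) = splitAdj i j)
    (l : List (Fin 35)) (b : Fin 35) (hb : b ∉ l) :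
    ∀ π ∈ stabQ Q l, π b ∈ cand l b := by
  intro π hπ
  rw [cand, Finset.mem_filter]
  refine ⟨Finset.mem_univ _, fun c hc => ⟨?_, ?_⟩⟩
  · intro h
    have h1 : π b = π c := by rw [h, hπ.2 c hc]
    exact hb (π.injective h1 ▸ hc)
  · have h1 := hQ π hπ.1 b c
    rw [hπ.2 c hc] at h1
    exact h1

theorem card_cand0 : (cand [] 0).card = 35 := by decide +kernel
theorem card_cand1 : (cand [0] 9).card = 18 := by decide +kernel
theorem card_cand2 : (cand [9, 0] 1).card = 8 := by decide +kernel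
theorem card_cand3 : (cand [1, 9, 0] 3).card = 4 := by decide +kernel
theorem card_cand4 : (cand [3, 1, 9, 0] 15).card = 2 := by decide +kernel
theorem card_cand5 : (cand [15, 3, 1, 9, 0] 18).card = 1 := by decide +kernel
theorem card_cand6 : (cand [18, 15, 3, 1, 9, 0] 5).card = 1 := by decide +kernel

/-- the base is resolving -/
theorem resolving : ∀ u v : Fin 35,
    (∀ c ∈ ([5, 18, 15, 3, 1, 9, 0] : List (Fin 35)), splitAdj u c = splitAdj v c) → u = v := by
  decide +kernel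

/-- [AUT] -/
theorem pkgAut : PkgAut := by
  intro Q hQ
  have h0 : Nat.card Q = Nat.card (stabQ Q []) := by
    have : stabQ Q [] = Q := by
      ext π
      rw [mem_stabQ]
      simp
    rw [this]
  have s0 := card_step Q [] 0 _ (mem_cand Q hQ [] 0 (by decide))
  have s1 := card_step Q [0] 9 _ (mem_cand Q hQ [0] 9 (by decide))
  have s2 := card_step Q [9, 0] 1 _ (mem_cand Q hQ [9, 0] 1 (by decide))
  have s3 := card_step Q [1, 9, 0] 3 _ (mem_cand Q hQ [1, 9, 0] 3 (by decide))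
  have s4 := card_step Q [3, 1, 9, 0] 15 _ (mem_cand Q hQ [3, 1, 9, 0] 15 (by decide))
  have s5 := card_step Q [15, 3, 1, 9, 0] 18 _ (mem_cand Q hQ [15, 3, 1, 9, 0] 18 (by decide))
  have s6 := card_step Q [18, 15, 3, 1, 9, 0] 5 _
    (mem_cand Q hQ [18, 15, 3, 1, 9, 0] 5 (by decide))
  rw [card_cand0] at s0
  rw [card_cand1] at s1
  rw [card_cand2] at s2
  rw [card_cand3] at s3
  rw [card_cand4] at s4
  rw [card_cand5] at s5
  rw [card_cand6] at s6
  have hbot : stabQ Q [5, 18, 15, 3, 1, 9, 0] = ⊥ := by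
    rw [eq_bot_iff]
    intro π hπ
    rw [Subgroup.mem_bot]
    ext v
    rw [Equiv.Perm.one_apply]
    congr 1
    apply resolving
    intro c hc
    have h1 := hQ π hπ.1 v c
    rw [hπ.2 c hc] at h1
    exact h1
  have s7 : Nat.card (stabQ Q [5, 18, 15, 3, 1, 9, 0]) = 1 := by
    rw [hbot, Subgroup.card_bot]
  rw [s7] at s6
  rw [h0]
  omega

end Cfsg.Agent.Lib.Helper86.MCI
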